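import Cfsg.Agent.Mrg.Omega.NO3S.TwoOne.Three
import Cfsg.Agent.Mrg.Omega.NO3S.TwoOne.PlaneKF
import Cfsg.Agent.Mrg.Omega.NO3S.TwoOne.DRel

-- merged: Cfsg.Agent.Mrg.Omega.NO3S.KOne.TFour
section

/-!
# NO-3S, `q = 2`, `n = 1`, `|A| = 2`, no `λ`-transvections (helper881 #18307): the bridge to `TSys`

`h : One T V z`, `NT V`, `|W_z : E_z| = 2`, `R : MRep V cg z M H`.

* `One.grp_four` : the group argument of (4.1);
* `AlphaIn V z y` : what is needed from ALPHA (2.1) for (3.2);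
* `One.tbase` : `TBase (R.pi y) (R.phi b) (h.iM R)`, `b ∈ W_y - E_y`; `One.exists_tsys` : the `TSys`; so `|M| = 16`
  (`TSys.card`).
-/

set_option autoImplicit false
set_option linter.unusedSectionVars false

namespace Cfsg.Agent.Omega.NO3S.TwoOne

open Subgroup Cfsg Cfsg.Agent.ZN Cfsg.Agent.MinSimple.Geo Cfsg.Agent.Omega.CaseL
open Cfsg.Agent.Omega.NO3S.Fit
open Cfsg.Agent.ZN.Block (conj_mem_of_normalizer conj_mem_of_normalizer' le_normalizer_of_forall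
  mem_normalizer_of)
open scoped commutatorElement

universe u

variable {G : Type u} [Group G]

theorem mem_ii_cj {V : Subgroup G} {c u : G} : u ∈ ii (cj c V) ↔ c⁻¹ * u * c ∈ ii V := by
  constructor
  · intro hu p hp hp1
    have h1 := hu (c * p * c⁻¹) (conj_mem_cj hp) (fun e => hp1 (conj_eq_one_iff.mp e))
    rw [ws_cj] at h1
    have h2 := conj_mem_ws c⁻¹ h1
    have e : c⁻¹ * (c * p * c⁻¹) * c⁻¹⁻¹ = p := by group
    rwa [e, inv_inv] at h2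
  · intro hu p hp hp1
    have h1 := hu (c⁻¹ * p * c) (mem_cj.mp hp) (conj_ne_one hp1)
    rw [ws_cj]
    have h2 := conj_mem_ws c h1
    have e : c * (c⁻¹ * p * c) * c⁻¹ = p := by group
    have e' : c * (c⁻¹ * u * c) * c⁻¹ = u := by group
    rwa [e, e'] at h2

namespace One

variable {T V L : Subgroup G} {z y q : G}

/-- the group argument of (4.1) -/
theorem grp_four [Finite G] (h : One T V z) (hN : NT V) (h2 : (ee V z).relIndex (ws V z) = 2)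
    (hL : L ∈ lines V z) (hy : y ∈ V) (hy1 : y ≠ 1) (hyz : y ≠ z) (hq : q ∈ L) (hq1 : q ≠ 1) (hqz : q ≠ z)
    (hyE : y ∉ ee L z) {b : G} (hb : b ∈ ws V y) (hbE : b ∉ ee V y) (hbq : b * q * b⁻¹ ∈ ee L z) :
    ∃ u ∈ ii V, u ∈ ii L ∧ u ∉ V := by
  have hz := h.ln.z_mem
  have hz1 := h.ln.z_ne
  obtain ⟨-, -, T', h'⟩ := h.of_line hL hz1
  have hyw : y ∈ ws L z := by rw [ws_of_lines hL]; exact h.V_le hz hz1 hy
  have hzy : z * y ∈ V := mul_mem hz hy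
  have hzy1 : z * y ≠ 1 := h.mul_ne_one hy (Ne.symm hyz)
  have hzyy : z * y ≠ y := fun e => hz1 (mul_eq_right.mp e)
  obtain ⟨f, hf, hf'⟩ := h'.exists_ee_not_dd (hN.of_lines hL) hq hq1
  have hfy : f * y * f⁻¹ = z * y := h'.ee_moves (h.two_of_lines h2 hL) hq hq1 hqz hf hf' hyw hyE
  have hfk : f ∈ kq V z := by
    have := hf.2 z h'.ln.z_mem hz1
    rwa [kq_of_lines hL] at this
  have hfn : f ∈ normalizer (V : Set G) := h.kq_le_normalizer hz hz1 hfk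
  have hbb : b * b = 1 := h.sq hy hy1 _ hb
  have hbi : b⁻¹ = b := inv_eq_self hbb
  have hff : f * f = 1 := h'.sq hq hq1 _ hf.1
  have hfi : f⁻¹ = f := inv_eq_self hff
  have hb2 : f * b * f⁻¹ ∈ ws V (z * y) := by
    have := conj_mem_ws f hb
    rwa [hfy] at this
  have hb2E : f * b * f⁻¹ ∉ ee V (z * y) := by
    intro e
    apply hbE
    have h3 := conj_mem_ee (inv_mem hfn) e
    have e1 : f⁻¹ * (z * y) * f⁻¹⁻¹ = y := by rw [← hfy]; group
    have e2 : f⁻¹ * (f * b * f⁻¹) * f⁻¹⁻¹ = b := by group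
    rwa [e1, e2] at h3
  have hui : ⁅b, f * b * f⁻¹⁆ ∈ ii V := h.comm_ii_mem hy hy1 hzy hzy1 hb hb2
  refine ⟨⁅b, f * b * f⁻¹⁆, hui, ?_, h.nt_beta hN h2 hy hy1 hzy hzy1 hzyy hb hb2 hbE hb2E⟩
  -- `u = [e₂, f]`, `e₂ = b f b⁻¹` centralises `q`
  have h3 : f * (b * q * b⁻¹) = (b * q * b⁻¹) * f := h'.ee_comm hq hq1 h'.ln.z_mem hz1 hf hbq
  have h4 : (b * f * b⁻¹) * q * (b * f * b⁻¹)⁻¹ = q := by
    calc (b * f * b⁻¹) * q * (b * f * b⁻¹)⁻¹ = b * f * (b⁻¹ * q * b) * f⁻¹ * b⁻¹ := by group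
      _ = b * f * (b * q * b⁻¹) * f⁻¹ * b⁻¹ := by rw [hbi]
      _ = b * (f * (b * q * b⁻¹)) * f⁻¹ * b⁻¹ := by group
      _ = b * ((b * q * b⁻¹) * f) * f⁻¹ * b⁻¹ := by rw [h3]
      _ = (b * b) * q * (b⁻¹ * b⁻¹) := by group
      _ = q := by rw [hbi, hbb, one_mul, mul_one]
  have h5 : (b * f * b⁻¹) * f * (b * f * b⁻¹)⁻¹ ∈ ws L q := by
    have := conj_mem_ws (b * f * b⁻¹) hf.1
    rwa [h4] at this
  have h6 : ⁅b, f * b * f⁻¹⁆ = (b * f * b⁻¹) * f * (b * f * b⁻¹)⁻¹ * f⁻¹ := by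
    have e1 : ⁅b, f * b * f⁻¹⁆ = b * (f * b * f⁻¹) * b⁻¹ * (f * b⁻¹ * f⁻¹) := by
      simp only [commutatorElement_def]; group
    have e2 : (b * f * b⁻¹) * f * (b * f * b⁻¹)⁻¹ * f⁻¹ = b * f * b⁻¹ * f * (b * f⁻¹ * b⁻¹) * f⁻¹ := by group
    rw [e1, e2, hbi, hfi]
    group
  refine h'.mem_ii h'.ln.z_mem hz1 hq hq1 hqz ?_ ?_
  · rw [ws_of_lines hL]
    exact ii_le hz hz1 hui
  · rw [h6]
    exact mul_mem h5 (inv_mem hf.1)

end One

/-- the input from ALPHA (2.1) for (3.2) -/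
def AlphaIn (V : Subgroup G) (z y : G) : Prop :=
  ∀ L ∈ lines V z, ∀ q ∈ L, q ≠ 1 → q ≠ z → y ∉ ee L z → q ∉ ee V z → ∀ u ∈ ii V, u ∈ ii L → u ∉ V → u ∉ L →
    ∃ w ∈ ws V y, w ∉ ee V y ∧ (⁅w, q⁆ = 1 ∨ ⁅w, q⁆ = u)

namespace One

variable {T V L : Subgroup G} {z y q : G}
variable {M H : Type u} [AddCommGroup M] [Group H] [DistribMulAction H M]

section rep

variable (h : One T V z) (R : MRep V cg z M H)
include h

theorem pi_mul' {a b : G} (ha : a ∈ ws V z) (hb : b ∈ ws V z) : R.pi (a * b) = R.pi a + R.pi b := by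
  have e := h.ww_cg h.ln.z_mem h.ln.z_ne
  exact R.pi_mul a (by rw [e]; exact ha) b (by rw [e]; exact hb)

theorem pi_surj' (m : M) : ∃ w ∈ ws V z, R.pi w = m := by
  obtain ⟨w, hw, e⟩ := R.pi_surj m
  rw [h.ww_cg h.ln.z_mem h.ln.z_ne] at hw
  exact ⟨w, hw, e⟩

theorem pi_zero {w : G} (hw : w ∈ ws V z) : R.pi w = 0 ↔ w = 1 ∨ w = z := by
  rw [← h.ww_cg h.ln.z_mem h.ln.z_ne] at hw
  exact R.pi_ker w hw

theorem pi_one' : R.pi 1 = 0 := (h.pi_zero R (one_mem _)).mpr (Or.inl rfl)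

theorem act' {c w : G} (hc : c ∈ cg z) (hw : w ∈ ws V z) : R.phi c • R.pi w = R.pi (c * w * c⁻¹) := by
  rw [← h.ww_cg h.ln.z_mem h.ln.z_ne] at hw
  exact R.act c hc w hw

theorem conj_ws {c w : G} (hc : c ∈ cg z) (hw : w ∈ ws V z) : c * w * c⁻¹ ∈ ws V z :=
  conj_mem_of_normalizer (centralizer_le_normalizer_ws V z) hc hw

variable [Finite G]

include R in
theorem two' (m : M) : m + m = 0 := R.two h.fam m

theorem pi_inv' {w : G} (hw : w ∈ ws V z) : R.pi w⁻¹ = R.pi w := by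
  rw [inv_eq_self (h.sqz w hw)]

theorem pi_eq' {a b : G} (ha : a ∈ ws V z) (hb : b ∈ ws V z) : R.pi a = R.pi b ↔ a = b ∨ a = z * b := by
  have e := h.ww_cg h.ln.z_mem h.ln.z_ne
  exact R.pi_eq h.fam (by rw [e]; exact ha) (by rw [e]; exact hb)

theorem comm' {c w : G} (hc : c ∈ cg z) (hw : w ∈ ws V z) : R.phi c • R.pi w + R.pi w = R.pi ⁅c, w⁆ := by
  rw [h.act' R hc hw, commutatorElement_def, h.pi_mul' R (h.conj_ws hc hw) (inv_mem hw), h.pi_inv' R hw]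

/-- `Ī` -/
def iM : AddSubgroup M where
  carrier := {m | ∃ u ∈ ii V, R.pi u = m}
  add_mem' := by
    rintro _ _ ⟨a, ha, rfl⟩ ⟨b, hb, rfl⟩
    exact ⟨a * b, mul_mem ha hb, h.pi_mul' R (ii_le h.ln.z_mem h.ln.z_ne ha) (ii_le h.ln.z_mem h.ln.z_ne hb)⟩
  zero_mem' := ⟨1, one_mem _, h.pi_one' R⟩
  neg_mem' := by
    rintro _ ⟨a, ha, rfl⟩
    refine ⟨a, ha, ?_⟩
    rw [eq_neg_iff_add_eq_zero]
    exact h.two' R _

theorem pi_mem_iM {w : G} (hw : w ∈ ws V z) : R.pi w ∈ h.iM R ↔ w ∈ ii V := by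
  constructor
  · rintro ⟨u, hu, e⟩
    rcases (h.pi_eq' R (ii_le h.ln.z_mem h.ln.z_ne hu) hw).mp e with e | e
    · rw [← e]; exact hu
    · have : w = z * u := by rw [e, ← mul_assoc, h.ln.zz, one_mul]
      rw [this]; exact mul_mem (h.V_le_ii h.ln.z_mem) hu
  · exact fun hw' => ⟨w, hw', rfl⟩

/-- `w ∈ L` iff `w̄ ∈ ⟨q̄⟩` -/
theorem pi_line (hL : L ∈ lines V z) (hq : q ∈ L) (hq1 : q ≠ 1) (hqz : q ≠ z) {w : G} (hw : w ∈ ws V z) :
    R.pi w = 0 ∨ R.pi w = R.pi q ↔ w ∈ L := by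
  have hz1 := h.ln.z_ne
  obtain ⟨-, -, T', h'⟩ := h.of_line hL hz1
  have hqw : q ∈ ws V z := by rw [← ws_of_lines hL]; exact h'.V_le h'.ln.z_mem hz1 hq
  rw [h.pi_zero R hw, h.pi_eq' R hw hqw]
  constructor
  · rintro ((e | e) | (e | e)) <;> rw [e]
    · exact one_mem _
    · exact h'.ln.z_mem
    · exact hq
    · exact mul_mem h'.ln.z_mem hq
  · intro hwL
    rcases h'.ln.four h'.ln.z_mem hq hz1 hq1 (Ne.symm hqz) hwL with e | e | e | e
    · exact Or.inl (Or.inl e)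
    · exact Or.inl (Or.inr e)
    · exact Or.inr (Or.inl e)
    · exact Or.inr (Or.inr e)

/-- `[w̄, b̄] ∈ ⟨q̄⟩` iff `w ∈ E_z(L)`, for `b ∈ W_q - E_q` -/
theorem pi_ee (hN : NT V) (h2 : (ee V z).relIndex (ws V z) = 2) (hL : L ∈ lines V z) (hq : q ∈ L) (hq1 : q ≠ 1)
    (hqz : q ≠ z) {b w : G} (hb : b ∈ ws L q) (hbE : b ∉ ee L q) (hw : w ∈ ws V z) :
    R.phi b • R.pi w + R.pi w = 0 ∨ R.phi b • R.pi w + R.pi w = R.pi q ↔ w ∈ ee L z := by
  have hz1 := h.ln.z_ne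
  obtain ⟨-, -, T', h'⟩ := h.of_line hL hz1
  have hbz : b ∈ cg z := h'.ws_le_cg hq hq1 hb
  have hwL : w ∈ ws L z := by rw [ws_of_lines hL]; exact hw
  have hc : ⁅b, w⁆ ∈ ws V z := by
    rw [commutatorElement_def]
    exact mul_mem (h.conj_ws hbz hw) (inv_mem hw)
  rw [h.comm' R hbz hw, h.pi_line R hL hq hq1 hqz hc, h'.comm_swap h'.ln.z_mem hz1 hq hq1 hwL hb]
  constructor
  · intro h3
    by_contra hwE
    exact h'.nt_beta (hN.of_lines hL) (h.two_of_lines h2 hL) h'.ln.z_mem hz1 hq hq1 hqz hwL hb hwE hbE h3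
  · intro hwE
    rcases h'.ee_cases hq hq1 hwE hb with e | e
    · rw [e]; exact one_mem _
    · rw [e]; exact hq

/-- two elements of `W_y - E_y` have the same image in `H` -/
theorem phi_eq' (h2 : (ee V z).relIndex (ws V z) = 2) (hy : y ∈ V) (hy1 : y ≠ 1) {a b : G}
    (ha : a ∈ ws V y) (haE : a ∉ ee V y) (hb : b ∈ ws V y) (hbE : b ∉ ee V y) : R.phi a = R.phi b := by
  have h3 := h.two_coset h2 hy hy1 ha hb haE hbE
  rw [R.phi_eq (h.ws_le_cg hy hy1 ha) (h.ws_le_cg hy hy1 hb), h.qq_cg]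
  exact h3.2 z h.ln.z_mem h.ln.z_ne

theorem phi_ee (hy : y ∈ V) (hy1 : y ≠ 1) {a : G} (ha : a ∈ ee V y) : R.phi a = 1 :=
  (h.phi_eq_one R (h.ws_le_cg hy hy1 ha.1)).mpr (ha.2 z h.ln.z_mem h.ln.z_ne)

/-- the preimage of a subgroup of `M` -/
def preM (X : AddSubgroup M) : Subgroup G where
  carrier := {w | w ∈ ws V z ∧ R.pi w ∈ X}
  mul_mem' := by
    rintro a b ⟨ha, ha1⟩ ⟨hb, hb1⟩
    exact ⟨mul_mem ha hb, by rw [h.pi_mul' R ha hb]; exact add_mem ha1 hb1⟩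
  one_mem' := ⟨one_mem _, by rw [h.pi_one' R]; exact zero_mem _⟩
  inv_mem' := by
    rintro a ⟨ha, ha1⟩
    exact ⟨inv_mem ha, by rw [h.pi_inv' R ha]; exact ha1⟩

theorem mem_preM {X : AddSubgroup M} {w : G} : w ∈ h.preM R X ↔ w ∈ ws V z ∧ R.pi w ∈ X := Iff.rfl

theorem preM_isSub {X : AddSubgroup M} (hX : ∀ (x : H), ∀ m ∈ X, x • m ∈ X) : IsSub V z (h.preM R X) where
  z_mem := ⟨h.V_le h.ln.z_mem h.ln.z_ne h.ln.z_mem, by
    rw [(h.pi_zero R (h.V_le h.ln.z_mem h.ln.z_ne h.ln.z_mem)).mpr (Or.inr rfl)]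
    exact zero_mem _⟩
  le := fun _ hw => hw.1
  norm := le_normalizer_of_forall fun c hc w hw => ⟨h.conj_ws hc hw.1, by
    rw [← h.act' R hc hw.1]; exact hX _ _ hw.2⟩

theorem preM_ne {X : AddSubgroup M} (hX : X ≠ ⊤) : h.preM R X ≠ ws V z := by
  intro e
  apply hX
  rw [eq_top_iff]
  intro m _
  obtain ⟨w, hw, rfl⟩ := h.pi_surj' R m
  rw [← e] at hw
  exact hw.2

/-- the facts about `v₀ = ȳ` -/
theorem tbase (hN : NT V) (h2 : (ee V z).relIndex (ws V z) = 2) (hy : y ∈ V) (hy1 : y ≠ 1) (hyz : y ≠ z)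
    (hA : AlphaIn V z y) {b : G} (hb : b ∈ ws V y) (hbE : b ∉ ee V y) :
    TBase (R.pi y) (R.phi b) (h.iM R) := by
  have hz := h.ln.z_mem
  have hz1 := h.ln.z_ne
  have hyw := h.V_le hz hz1 hy
  have hbz : b ∈ cg z := h.ws_le_cg hy hy1 hb
  have hVL := h.ln.V_mem_lines
  have hbb : b * b = 1 := h.sq hy hy1 _ hb
  have hEV : ∀ w ∈ ws V z, (R.phi b • R.pi w + R.pi w = 0 ∨ R.phi b • R.pi w + R.pi w = R.pi y ↔ w ∈ ee V z) :=
    fun w hw => h.pi_ee R hN h2 hVL hy hy1 hyz hb hbE hw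
  -- the second line
  have key : ∀ c ∈ cg z, ∃ L q b', L = cj c V ∧ q = c * y * c⁻¹ ∧ b' = c * b * c⁻¹ ∧ L ∈ lines V z ∧ q ∈ L ∧
      q ≠ 1 ∧ q ≠ z ∧ b' ∈ ws L q ∧ b' ∉ ee L q ∧ R.phi b' = R.phi c * R.phi b * (R.phi c)⁻¹ ∧
      R.pi q = R.phi c • R.pi y ∧ q ∈ ws V z ∧ b' ∈ cg z := by
    intro c hc
    have hcz : c * z * c⁻¹ = z := conj_eq_of_comm (mem_centralizer_singleton_iff.mp hc)
    have hb' : c * b * c⁻¹ ∈ cg z := mul_mem (mul_mem hc hbz) (inv_mem hc)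
    refine ⟨cj c V, c * y * c⁻¹, c * b * c⁻¹, rfl, rfl, rfl, h.ln.cj_mem_lines hc, conj_mem_cj hy,
      fun e => hy1 (conj_eq_one_iff.mp e), fun e => hyz ?_, ?_, ?_, ?_, ?_, h.conj_ws hc hyw, hb'⟩
    · rw [← hcz] at e
      simpa using e
    · rw [ws_cj]
      exact conj_mem_ws c hb
    · intro e
      apply hbE
      refine ⟨hb, fun p hp hp1 => ?_⟩
      have h3 := e.2 (c * p * c⁻¹) (conj_mem_cj hp) (fun e => hp1 (conj_eq_one_iff.mp e))
      rw [kq_cj] at h3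
      have h4 := conj_mem_kq c⁻¹ h3
      have e1 : c⁻¹ * (c * p * c⁻¹) * c⁻¹⁻¹ = p := by group
      have e2 : c⁻¹ * (c * b * c⁻¹) * c⁻¹⁻¹ = b := by group
      rwa [e1, e2] at h4
    · rw [R.phi_mul _ (mul_mem hc hbz) _ (inv_mem hc), R.phi_mul _ hc _ hbz, phi_inv' R hc]
    · rw [h.act' R hc hyw]
  -- the conditions of `rel`, `alpha`, `grp`
  have cond : ∀ c ∈ cg z, R.phi b • (R.phi c • R.pi y) + R.phi c • R.pi y ≠ 0 →
      R.phi b • (R.phi c • R.pi y) + R.phi c • R.pi y ≠ R.pi y →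
      (R.phi c * R.phi b * (R.phi c)⁻¹) • R.pi y + R.pi y ≠ 0 →
      (R.phi c * R.phi b * (R.phi c)⁻¹) • R.pi y + R.pi y ≠ R.phi c • R.pi y →
      y ∉ ee (cj c V) z ∧ c * y * c⁻¹ ∉ ee V z := by
    intro c hc h3 h4 h5 h6
    obtain ⟨L, q, b', rfl, rfl, rfl, hL, hq, hq1, hqz, hb', hbE', e1, e2, hqw, hbz'⟩ := key c hc
    rw [← e2] at h3 h4 h6
    rw [← e1] at h5 h6
    constructor
    · intro h7
      rcases (h.pi_ee R hN h2 hL hq hq1 hqz hb' hbE' hyw).mpr h7 with e | e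
      · exact h5 e
      · exact h6 e
    · intro h7
      rcases (hEV _ hqw).mpr h7 with e | e
      · exact h3 e
      · exact h4 e
  refine
    { two := h.two' R
      ne0 := fun e => ?_
      stab := fun x hx => ?_
      stabI := fun x hx m hm => ?_
      sq := ?_
      cent := fun x hx => ?_
      fix := ?_
      comm := fun m => ?_
      mem := ?_
      nt := ?_
      idx := fun m n => ?_
      lemI := fun X hX hne m hm hmI => ?_
      faith := fun X hX hne x hx => ?_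
      rel := fun x => ?_
      alpha := fun x => ?_
      grp := fun x => ?_ }
  · rcases (h.pi_zero R hyw).mp e with e | e
    · exact hy1 e
    · exact hyz e
  · obtain ⟨d, hd, rfl⟩ := R.stab h.fam hy hy1 hyz hx
    have hdz : d ∈ cg z := h.cent_le_centralizer hz hd
    have h3 := (h.cent_of_two hy (by rw [h.relIndex_ee_ws hy hy1 hz hz1]; exact h2) hd hb).2 z hz hz1
    rw [← R.phi_mul _ hdz _ hbz, ← R.phi_mul _ hbz _ hdz, R.phi_eq (mul_mem hdz hbz) (mul_mem hbz hdz), h.qq_cg]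
    have e : d * b * (b * d)⁻¹ = d * b * d⁻¹ * b⁻¹ := by group
    rw [e]; exact h3
  · obtain ⟨d, hd, rfl⟩ := R.stab h.fam hy hy1 hyz hx
    obtain ⟨u, hu, rfl⟩ := hm
    have hdz : d ∈ cg z := h.cent_le_centralizer hz hd
    rw [h.act' R hdz (ii_le hz hz1 hu)]
    exact ⟨_, conj_mem_of_normalizer (normalizer_le_normalizer_ii V) (centralizer_le_normalizer _ hd) hu, rfl⟩
  · rw [← R.phi_mul _ hbz _ hbz, hbb, R.phi_one']
  · refine h.rep_comm R hy hy1 hyz fun a ha => ?_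
    have hle : ww V cg y ≤ cg z := by rw [h.ww_cg hy hy1]; exact h.ws_le_cg hy hy1
    obtain ⟨a', ha', rfl⟩ := (R.mem_img hle).mp ha
    rw [h.ww_cg hy hy1] at ha'
    by_cases haE : a' ∈ ee V y
    · rw [h.phi_ee R hy hy1 haE, one_mul, mul_one]
    · rw [h.phi_eq' R h2 hy hy1 ha' haE hb hbE, hx]
  · rintro _ ⟨u, hu, rfl⟩
    rw [h.act' R hbz (ii_le hz hz1 hu), conj_eq_of_comm (h.comm hy hy1 b hb u (ii_le hy hy1 hu))]
  · obtain ⟨w, hw, rfl⟩ := h.pi_surj' R m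
    rw [h.comm' R hbz hw]
    exact ⟨_, h.comm_ii_mem hy hy1 hz hz1 hb hw, rfl⟩
  · obtain ⟨e, he, b', hb', h3⟩ := h.exists_ee_comm hz hz1 (h.nt_phi hN hz hz1) hz hz1 hy hy1 hyz
    have hbE' : b' ∉ ee V y := fun h4 => hy1 (by
      rw [← h3]
      exact commutatorElement_eq_one_iff_mul_comm.mpr (h.ee_comm hz hz1 hy hy1 he h4))
    refine ⟨R.pi e, ?_⟩
    rw [h.phi_eq' R h2 hy hy1 hb hbE hb' hbE', h.comm' R (h.ws_le_cg hy hy1 hb') he.1,
      h.comm_swap hz hz1 hy hy1 he.1 hb', h3]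
  · obtain ⟨w, hw, hwE⟩ := SetLike.not_le_iff_exists.mp (h.not_ws_le_ee hz hz1)
    refine ⟨R.pi w, ?_⟩
    by_contra hcon
    rw [not_and_or, not_not, not_not] at hcon
    exact hwE ((hEV w hw).mp hcon)
  · obtain ⟨w, hw, rfl⟩ := h.pi_surj' R m
    obtain ⟨w', hw', rfl⟩ := h.pi_surj' R n
    intro h3 h4 h5 h6
    have hwE : w ∉ ee V z := fun h7 => by
      rcases (hEV w hw).mpr h7 with e | e
      · exact h3 e
      · exact h4 e
    have hwE' : w' ∉ ee V z := fun h7 => by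
      rcases (hEV w' hw').mpr h7 with e | e
      · exact h5 e
      · exact h6 e
    have h7 := h.two_coset h2 hz hz1 hw hw' hwE hwE'
    rw [inv_eq_self (h.sqz w' hw')] at h7
    rw [← h.pi_mul' R hw hw']
    exact (hEV _ (mul_mem hw hw')).mpr h7
  · obtain ⟨u, hu, rfl⟩ := hmI
    have h3 := h.lemma_i (h.preM_isSub R hX) (h.preM_ne R hne) (u := u) ⟨ii_le hz hz1 hu, hm⟩ hu
    exact (h.pi_zero R (ii_le hz hz1 hu)).mpr h3
  · obtain ⟨g, hg, rfl⟩ := R.phi_surj x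
    rw [h.phi_eq_one R hg]
    refine h.faithful hg fun w hw => ?_
    refine h.le_cm (h.preM_isSub R hX) (h.preM_ne R hne) ⟨mul_mem (h.conj_ws hg hw) (inv_mem hw), ?_⟩
    have := hx (R.pi w)
    rwa [h.comm' R hg hw, commutatorElement_def] at this
  · obtain ⟨c, hc, rfl⟩ := R.phi_surj x
    intro h3 h4 h5 h6 d hd
    obtain ⟨hyE, hqE⟩ := cond c hc h3 h4 h5 h6
    obtain ⟨L, q, b', rfl, rfl, rfl, hL, hq, hq1, hqz, hb', hbE', e1, e2, hqw, hbz'⟩ := key c hc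
    obtain ⟨w, hw, rfl⟩ := h.pi_surj' R d
    -- `w ∈ D_z`
    have hwc : ⁅b, w⁆ = 1 ∨ ⁅b, w⁆ = z := by
      refine (h.pi_zero R (mul_mem (h.conj_ws hbz hw) (inv_mem hw))).mp ?_
      rw [← commutatorElement_def, ← h.comm' R hbz hw, hd]
      exact h.two' R _
    have hwD : w ∈ dd V z := by
      rw [h.nt_mem_dd hN hz hz1 hy hy1 hyz]
      refine ⟨hw, fun a ha => ?_⟩
      rw [mem_zpowers_iff_of_mul_self h.ln.zz]
      by_cases haE : a ∈ ee V y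
      · have h7 := h.ee_cases hz hz1 haE hw
        rwa [h.comm_swap hz hz1 hy hy1 hw ha] at h7
      · have h7 := h.two_coset h2 hy hy1 ha hb haE hbE
        have h8 := h.ee_cases hz hz1 h7 hw
        rw [h.comm_swap hz hz1 hy hy1 hw (mul_mem ha (inv_mem hb))] at h8
        have h9 : ⁅w, b⁆ = 1 ∨ ⁅w, b⁆ = z := by
          rwa [h.comm_swap hz hz1 hy hy1 hw hb] at hwc
        have e : ⁅w, a⁆ = ⁅w, a * b⁻¹⁆ * ⁅w, b⁆ := by
          rw [← h.comm_mul_right hz hz1 hy hy1 hw (mul_mem ha (inv_mem hb)) hb]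
          congr 1; group
        rw [e]
        rcases h8 with e8 | e8 <;> rcases h9 with e9 | e9 <;> rw [e8, e9]
        · left; exact one_mul 1
        · right; exact one_mul z
        · right; exact mul_one z
        · left; exact h.ln.zz
    obtain ⟨-, -, T', h'⟩ := h.of_line hL hz1
    obtain ⟨r, hr, hr'⟩ := h'.exists_ee_not_dd (hN.of_lines hL) hq hq1
    obtain ⟨d, hd', hi⟩ := h.sym_pair_surj hN h2 hL hy hy1 hyz hq hq1 hqz hyE hqE hr hr' hwD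
    obtain ⟨h7, h8, -⟩ := h.sym_pair hN h2 hL hy hy1 hyz hq hq1 hqz hyE hqE hr hr' hd'
    set D := d * (r * d * r⁻¹) with hD
    set i := w⁻¹ * D with hi'
    have hDw : D ∈ ws V z := h8.1
    have hiw : i ∈ ws V z := ii_le hz hz1 hi
    have hDc : c⁻¹ * D * c ∈ ii V := mem_ii_cj.mp h7
    have hj : R.phi c • R.pi (c⁻¹ * D * c) = R.pi D := by
      rw [h.act' R hc (ii_le hz hz1 hDc)]
      congr 1; group
    refine ⟨R.pi i, ⟨i, hi, rfl⟩, R.pi (c⁻¹ * D * c), ⟨_, hDc, rfl⟩, ?_, ?_⟩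
    · rw [hj, h.act' R hbz hDw, conj_eq_of_comm]
      exact (h8.2 y hy hy1 b hb).symm
    · rw [hj, ← h.pi_mul' R hiw hDw]
      have e : i * D = w := by
        have h9 : D * D = 1 := h.sqz D hDw
        rw [hi', mul_assoc, h9, mul_one, inv_eq_self (h.sqz w hw)]
      rw [e]
  · obtain ⟨c, hc, rfl⟩ := R.phi_surj x
    intro h3 h4 h5 h6 u hu j hj hju hu0
    obtain ⟨hyE, hqE⟩ := cond c hc h3 h4 h5 h6
    obtain ⟨L, q, b', rfl, rfl, rfl, hL, hq, hq1, hqz, hb', hbE', e1, e2, hqw, hbz'⟩ := key c hc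
    obtain ⟨-, -, T', h'⟩ := h.of_line hL hz1
    obtain ⟨u, hu, rfl⟩ := hu
    obtain ⟨j, hj, rfl⟩ := hj
    have huw := ii_le hz hz1 hu
    have huL : u ∈ ii (cj c V) := by
      rw [h.act' R hc (ii_le hz hz1 hj), h.pi_eq' R (h.conj_ws hc (ii_le hz hz1 hj)) huw] at hju
      have h7 : c * j * c⁻¹ ∈ ii (cj c V) := by
        rw [mem_ii_cj]
        have e : c⁻¹ * (c * j * c⁻¹) * c = j := by group
        rw [e]; exact hj
      rcases hju with e | e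
      · rw [← e]; exact h7
      · have e' : u = z * (c * j * c⁻¹) := by rw [e, ← mul_assoc, h.ln.zz, one_mul]
        rw [e']; exact mul_mem (h'.V_le_ii h'.ln.z_mem) h7
    have hu1 : u ≠ 1 := fun e => hu0 ((h.pi_zero R huw).mpr (Or.inl e))
    have huz : u ≠ z := fun e => hu0 ((h.pi_zero R huw).mpr (Or.inr e))
    have huV : u ∉ V := by
      intro h7
      apply hyE
      have h8 := h'.ii_le_ee h'.ln.z_mem hz1 huL
      rcases h.ln.four hz hy hz1 hy1 (Ne.symm hyz) h7 with e | e | e | e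
      · exact absurd e hu1
      · exact absurd e huz
      · rwa [e] at h8
      · rw [e] at h8
        have := mul_mem (inv_mem (h'.V_le_ee h'.ln.z_mem hz1 h'.ln.z_mem)) h8
        rwa [inv_mul_cancel_left] at this
    have huL' : u ∉ cj c V := by
      intro h7
      apply hqE
      have h8 := h.ii_le_ee hz hz1 hu
      rcases h'.ln.four h'.ln.z_mem hq hz1 hq1 (Ne.symm hqz) h7 with e | e | e | e
      · exact absurd e hu1
      · exact absurd e huz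
      · rwa [e] at h8
      · rw [e] at h8
        have := mul_mem (inv_mem (h.V_le_ee hz hz1 hz)) h8
        rwa [inv_mul_cancel_left] at this
    obtain ⟨w, hw, hwE, hwq⟩ := hA _ hL _ hq hq1 hqz hyE hqE u hu huL huV huL'
    have hwz : w ∈ cg z := h.ws_le_cg hy hy1 hw
    rw [← e2, h.phi_eq' R h2 hy hy1 hb hbE hw hwE, h.comm' R hwz hqw]
    rcases hwq with e | e
    · exfalso
      apply h3
      rw [← e2, h.phi_eq' R h2 hy hy1 hb hbE hw hwE, h.comm' R hwz hqw, e, h.pi_one' R]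
    · rw [e]
  · obtain ⟨c, hc, rfl⟩ := R.phi_surj x
    intro h3 h4 h5 h6 h7
    obtain ⟨hyE, hqE⟩ := cond c hc h3 h4 h5 h6
    obtain ⟨L, q, b', rfl, rfl, rfl, hL, hq, hq1, hqz, hb', hbE', e1, e2, hqw, hbz'⟩ := key c hc
    have hbqw : b * (c * y * c⁻¹) * b⁻¹ ∈ ws V z := h.conj_ws hbz hqw
    rw [← e1, ← e2, h.act' R hbz hqw] at h7
    have h8 := (h.pi_ee R hN h2 hL hq hq1 hqz hb' hbE' hbqw).mp h7
    obtain ⟨u, hu, hu', huV⟩ := h.grp_four hN h2 hL hy hy1 hyz hq hq1 hqz hyE hb hbE h8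
    have huc : c⁻¹ * u * c ∈ ii V := mem_ii_cj.mp hu'
    have huw := ii_le hz hz1 hu
    have e3 : R.phi c • R.pi (c⁻¹ * u * c) = R.pi u := by
      rw [h.act' R hc (ii_le hz hz1 huc)]
      congr 1; group
    refine ⟨R.pi (c⁻¹ * u * c), ⟨_, huc, rfl⟩, ?_, ?_⟩
    · rw [e3]; exact ⟨u, hu, rfl⟩
    · intro e
      rw [e, smul_zero] at e3
      apply huV
      rcases (h.pi_zero R huw).mp e3.symm with e | e
      · rw [e]; exact one_mem _
      · rw [e]; exact hz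

/-- **(4.4)** : sections 3 and 4 of #18307 -/
theorem exists_tsys (hN : NT V) (h2 : (ee V z).relIndex (ws V z) = 2) (hy : y ∈ V) (hy1 : y ≠ 1) (hyz : y ≠ z)
    (hA : AlphaIn V z y) {b : G} (hb : b ∈ ws V y) (hbE : b ∉ ee V y) :
    ∃ S : TSys M H, (S.L = Set.range fun x : H => x • R.pi y) ∧
      (∀ x : H, S.a (x • R.pi y) = x * R.phi b * x⁻¹) ∧
      ∀ (x : H) (m : M), m ∈ S.I (x • R.pi y) ↔ x⁻¹ • m ∈ h.iM R := by
  have B := h.tbase R hN h2 hy hy1 hyz hA hb hbE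
  exact ⟨TSys.ofBase B, rfl, fun x => TSys.ofBase_a B x, fun x m => TSys.mem_ofBase_I B x⟩

end rep

end One

end Cfsg.Agent.Omega.NO3S.TwoOne

end

-- merged: Cfsg.Agent.Mrg.Omega.NO3S.KOne.TAlpha
section

/-!
# NO-3S, `q = 2`, `n = 1`, `|A| = 2`, no `λ`-transvections (helper881 #18307): (3.2) and `|M| = 16`

* `One.alphaIn` : (3.2) from THEOREM ALPHA (2.1);
* `One.tsys` : the `TSys` of `h : One T V z`, `NT V`, `|W_z : E_z| = 2`, without further hypotheses;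
* `One.card_sixteen` : `|M| = 16`.
-/

set_option autoImplicit false
set_option linter.unusedSectionVars false

namespace Cfsg.Agent.Omega.NO3S.TwoOne

open Subgroup Cfsg Cfsg.Agent.ZN Cfsg.Agent.MinSimple.Geo Cfsg.Agent.Omega.CaseL
open Cfsg.Agent.Omega.NO3S.Fit
open Cfsg.Agent.ZN.Block (conj_mem_of_normalizer conj_mem_of_normalizer' le_normalizer_of_forall
  mem_normalizer_of)
open scoped commutatorElement

universe u

variable {G : Type u} [Group G]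

namespace One

variable {T V L : Subgroup G} {z y q : G}

/-- (3.2) -/
theorem alphaIn [Finite G] (h : One T V z) (hN : NT V) (h2 : (ee V z).relIndex (ws V z) = 2) (hy : y ∈ V)
    (hy1 : y ≠ 1) (hyz : y ≠ z) : AlphaIn V z y := by
  intro L hL q hq hq1 hqz hyE hqE u hu hu' huV huL
  have hz := h.ln.z_mem
  have hz1 := h.ln.z_ne
  obtain ⟨-, -, T', h'⟩ := h.of_line hL hz1
  have hqw : q ∈ ws V z := le_ws hL hq
  have hyw : y ∈ ws L z := by rw [ws_of_lines hL]; exact h.V_le hz hz1 hy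
  -- the symmetric pair
  obtain ⟨r, hr, hr'⟩ := h'.exists_ee_not_dd (hN.of_lines hL) hq hq1
  obtain ⟨g, hg, hg'⟩ := h.exists_ee_not_dd hN hy hy1
  have S : Spr V L z y q r g := Spr.of_ee hL hy hy1 hyz hq hq1 hqz hr
    (h'.ee_moves (h.two_of_lines h2 hL) hq hq1 hqz hr hr' hyw hyE) hy hy1 hg.1
    (h.ee_moves h2 hy hy1 hyz hg hg' hqw hqE)
  -- `q ∈ N`
  have hqN : q ∈ nu u z := h'.V_le_nu hu' huL hq
  obtain ⟨c, hc, hcu, hcz⟩ := h.ftwo hu huV hz hz1 hy hy1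
  have hw : c * q * c⁻¹ ∈ ws V y := by
    have := conj_mem_ws c hqw
    rwa [hcz] at this
  refine ⟨c * q * c⁻¹, hw, ?_, ?_⟩
  · intro e
    apply hqE
    have h3 := conj_mem_ee (inv_mem hc) e
    have e1 : c⁻¹ * y * c⁻¹⁻¹ = z := by rw [← hcz]; group
    have e2 : c⁻¹ * (c * q * c⁻¹) * c⁻¹⁻¹ = q := by group
    rwa [e1, e2] at h3
  · exact S.nu_comm h hN hu hu' huV hy hy1 hz hz1 (Ne.symm hyz)
      (conj_mem_nu (mem_centralizer_singleton_iff.mpr hcu) hqN) hw hqN hqw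

variable {M H : Type u} [AddCommGroup M] [Group H] [DistribMulAction H M]

/-- sections 2-4 of #18307 -/
theorem tsys [Finite G] (h : One T V z) (R : MRep V cg z M H) (hN : NT V)
    (h2 : (ee V z).relIndex (ws V z) = 2) (hy : y ∈ V) (hy1 : y ≠ 1) (hyz : y ≠ z) {b : G} (hb : b ∈ ws V y)
    (hbE : b ∉ ee V y) :
    ∃ S : TSys M H, (S.L = Set.range fun x : H => x • R.pi y) ∧
      (∀ x : H, S.a (x • R.pi y) = x * R.phi b * x⁻¹) ∧
      ∀ (x : H) (m : M), m ∈ S.I (x • R.pi y) ↔ x⁻¹ • m ∈ h.iM R :=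
  h.exists_tsys R hN h2 hy hy1 hyz (h.alphaIn hN h2 hy hy1 hyz) hb hbE

/-- **(4.4)** -/
theorem card_sixteen [Finite G] [Finite M] (h : One T V z) (R : MRep V cg z M H) (hN : NT V)
    (h2 : (ee V z).relIndex (ws V z) = 2) : Nat.card M = 16 := by
  obtain ⟨y, hy, hy1, hyz⟩ := h.exists_q h.ln.z_mem h.ln.z_ne
  obtain ⟨b, hb, hbE⟩ := SetLike.not_le_iff_exists.mp (h.not_ws_le_ee hy hy1)
  obtain ⟨S, -⟩ := h.tsys R hN h2 hy hy1 hyz hb hbE
  exact S.card.1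

end One

end Cfsg.Agent.Omega.NO3S.TwoOne

end
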